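import Cfsg.Agent.H482.TwoCyc.Row
import Cfsg.Agent.H940.EngData

/-!
# TEAM TWOCYC (S3507): tools for the sporadic rows (helper326)

* `mo_of_index` : `|Out T| ≤ 2` and a bound for the element orders give `Mo`;
* `lt_index` : a numerical check with the engine of helper940 bounds the index of the proper subgroups;
* `row_of_sm` : `Row3` from a model.
-/

set_option autoImplicit false

namespace Cfsg.Agent.H326.TwoCyc

open Cfsg Subgroup Cfsg.Agent.H384.Cyc Cfsg.Agent.H940.Eng Cfsg.Agent.OrdDiv

universe u v

/-- the square of an automorphism is inner -/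
theorem exists_sq {S : Type u} [Group S]
    (h : (MulAut.conj : S →* MulAut S).range.index = 1 ∨ (MulAut.conj : S →* MulAut S).range.index = 2)
    (α : MulAut S) : ∃ x : S, α ^ 2 = MulAut.conj x := by
  have h1 : α ^ 2 ∈ (MulAut.conj : S →* MulAut S).range := by
    rcases h with h | h
    · rw [Subgroup.index_eq_one.1 h]
      exact mem_top _
    · exact Subgroup.sq_mem_of_index_two h α
  obtain ⟨x, hx⟩ := h1
  exact ⟨x, hx.symm⟩

theorem mo_of_index {S : Type u} [Group S] [Finite S]
    (h : (MulAut.conj : S →* MulAut S).range.index = 1 ∨ (MulAut.conj : S →* MulAut S).range.index = 2)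
    {b : ℕ} (hb : ∀ x : S, orderOf x ≤ b) : Mo S (2 * b) := by
  intro α
  obtain ⟨x, hx⟩ := exists_sq h α
  have h1 : α ^ (2 * orderOf x) = 1 := by
    rw [pow_mul, hx, ← map_pow, pow_orderOf_eq_one, map_one]
  have h2 : 0 < orderOf x := orderOf_pos x
  exact (Nat.le_of_dvd (by omega) (orderOf_dvd_of_pow_eq_one h1)).trans (Nat.mul_le_mul_left 2 (hb x))

/-- the numerical check: all indices from `2` to `N` are excluded -/
def checkB (l : List (ℕ × ℕ)) (n : ℕ) (loc : List LD) (ords : List ℕ) (N : ℕ) (allow : List ℕ) : Bool :=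
  (List.range (N + 1)).all fun d => Nat.ble d 1 || !(Nat.beq (n % d) 0) || allow.contains d ||
    bad l n [] 0 loc ords (n / d)

theorem lt_index' {S : Type u} [Group S] {l : List (ℕ × ℕ)} {n : ℕ} {ords : List ℕ} {loc : List LD}
    (c : Ctx S l n ords loc) {N : ℕ} {allow : List ℕ} (hc : checkB l n loc ords N allow = true) {H : Subgroup S} (hH : H ≠ ⊤) :
    N < H.index ∨ H.index ∈ allow := by
  have := c.fin
  have := c.simple
  by_contra hlt
  push Not at hlt
  obtain ⟨hlt, hal⟩ := hlt
  have h0 : H.index ≠ 0 := Subgroup.index_ne_zero_of_finite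
  have h1 : H.index ≠ 1 := fun h => hH (Subgroup.index_eq_one.1 h)
  have h2 : H.index ∣ n := by
    rw [← c.card]
    exact Subgroup.index_dvd_card H
  have h3 : n / H.index = Nat.card H := by
    rw [← c.card]
    apply Nat.div_eq_of_eq_mul_left (Nat.pos_of_ne_zero h0)
    exact (card_mul_index H).symm
  unfold checkB at hc
  rw [List.all_eq_true] at hc
  have h4 := hc H.index (List.mem_range.2 (by omega))
  rw [h3, not_bad c.val c.card c.ords c.loc (full := []) (fun p hp => absurd hp List.not_mem_nil) hH,
    Bool.or_false, Bool.or_eq_true, Bool.or_eq_true, List.contains_iff_mem] at h4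
  rcases h4 with (h4 | h4) | h4
  · rw [Nat.ble_eq] at h4
    omega
  · rw [Nat.mod_eq_zero_of_dvd h2] at h4
    exact absurd h4 (by decide)
  · exact hal h4

theorem lt_index {S : Type u} [Group S] {l : List (ℕ × ℕ)} {n : ℕ} {ords : List ℕ} {loc : List LD}
    (c : Ctx S l n ords loc) {N : ℕ} (hc : checkB l n loc ords N [] = true) {H : Subgroup S} (hH : H ≠ ⊤) :
    N < H.index := by
  rcases lt_index' c hc hH with h | h
  · exact h
  · exact absurd h List.not_mem_nil

end Cfsg.Agent.H326.TwoCyc
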