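import Cfsg.Agent.H326.TwoCyc.Tools
import Cfsg.Agent.H305.SepJ1
import Cfsg.Agent.H413.JOneSpec
import Cfsg.Agent.H715.Fpr.J3
import Cfsg.Agent.H711.JThreeRow
import Cfsg.Agent.H417.Divs
import Cfsg.Agent.J2Type.SylowFive
import Cfsg.Agent.S2065
import Cfsg.Agent.S2067
import Cfsg.Agent.S0000
import Cfsg.Agent.OrdDiv.Table

/-!
# TEAM TWOCYC (S3507): the rows `J₁`, `J₃` (helper326)
-/

set_option autoImplicit false

namespace Cfsg.Agent.H326.TwoCyc

open Cfsg Subgroup Cfsg.Agent.H384.Cyc Cfsg.Agent.H940.Eng Cfsg.Agent.OrdDiv Cfsg.Agent.H940.Eng.D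

universe u v

/-- the two inputs of the engine -/
theorem base0 : Base := ⟨Cfsg.Agent.OrdDiv.table.{0}, fun _ _ _ _ => Cfsg.Agent.S0000.result⟩

/-! ### `J₁` -/

theorem sm_j1 : Sm Spor.J1 := by
  refine ⟨19, ?_, fun H hH => ?_⟩
  · intro α
    obtain ⟨k, hk⟩ := Cfsg.Agent.OddHalf.D4.Spor.J1Out.inn α
    have h1 := H413.JOneSpec.orderOf_mem_J1 k
    have h2 : orderOf k ≤ 19 ∧ 0 < orderOf k := by
      simp only [Finset.mem_insert, Finset.mem_singleton] at h1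
      omega
    have h3 : α ^ orderOf k = 1 := by
      rw [hk, ← map_pow, pow_orderOf_eq_one, map_one]
    exact (Nat.le_of_dvd h2.2 (orderOf_dvd_of_pow_eq_one h3)).trans h2.1
  · exact lt_index (H305.SepJ1.ctx base0) (N := 38) (by decide +kernel) hH

/-- **The row `J₁`.** -/
theorem row_j1 : Row3.{u, v} (fun T _ => Spor.IsoJ1 T) := by
  intro G Ω _ _ T g h hT
  obtain ⟨e⟩ := hT
  exact H482.TwoCyc.row_sm G Ω T g h (sm_j1.congr e.symm)

/-! ### `J₃` -/

section J3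

open Cfsg.Spor Cfsg.Agent.J3.Core Cfsg.Agent.J3.Elts Cfsg.Agent.J3.Mono Cfsg.Agent.J3.Nineteen Cfsg.Agent.H711.JThreeRow

variable {F : Type} [Field F] {ω : F}

theorem pow_nine_of_mem (H : Good ω) {t : threeJ3 F ω} (ht : t ∈ Ph H) : t ^ 9 = 1 := by
  obtain ⟨w, f, h⟩ := ht
  exact mat_injective (by rw [map_pow, h, mono_pow_nine H, map_one])

/-- the 3-elements of `3·J₃` have exponent 9 -/
theorem pow_nine_lift [Fintype F] (hF : Fintype.card F = 4) (hω : ω ^ 2 + ω + 1 = 0) {t : threeJ3 F ω} {k : ℕ}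
    (ht : orderOf t = 3 ^ k) : t ^ 9 = 1 := by
  have : Fact (Nat.Prime 3) := ⟨Nat.prime_three⟩
  have H := good_of_card hF hω
  obtain ⟨-, hT, -, -⟩ := S1625.result F hF ω hω
  have hfT : Finite (threeJ3 F ω) := Nat.finite_of_card_ne_zero (by rw [hT]; norm_num)
  have hPh := card_Ph hF H
  have hidx : ¬ 3 ∣ (Ph H).index := by
    intro h3
    have h1 := (Ph H).card_mul_index
    have h2 : 3 ^ 6 * 3 ∣ Nat.card (threeJ3 F ω) := by
      rw [← h1]
      exact Nat.mul_dvd_mul hPh h3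
    rw [hT] at h2
    norm_num at h2
  obtain ⟨g, hg⟩ := J2Type.SylowFive.exists_conj_mem_sylow ((isPGroup_Ph H).toSylow hidx) (y := t) (n := k) ht
  have h1 : g * t * g⁻¹ ∈ Ph H := hg
  have h2 := pow_nine_of_mem H h1
  rw [conj_pow] at h2
  calc t ^ 9 = g⁻¹ * (g * t ^ 9 * g⁻¹) * g := by group
    _ = 1 := by rw [h2]; group

/-- the 3-elements of `J₃` have exponent 9 -/
theorem pow_nine_J3 [Fintype F] (hF : Fintype.card F = 4) (hω : ω ^ 2 + ω + 1 = 0) {x : J3 F ω} {k : ℕ}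
    (hx : orderOf x = 3 ^ k) : x ^ 9 = 1 := by
  obtain ⟨-, hT, -, -⟩ := S1625.result F hF ω hω
  have hfT : Finite (threeJ3 F ω) := Nat.finite_of_card_ne_zero (by rw [hT]; norm_num)
  obtain ⟨t, rfl⟩ := QuotientGroup.mk_surjective x
  obtain ⟨j, m, hm, hj⟩ := Nat.exists_eq_pow_mul_and_not_dvd (orderOf_pos t).ne' 3 (by norm_num)
  have h1 : orderOf (t ^ m) = 3 ^ j := by
    have hm0 : m ≠ 0 := by rintro rfl; simp at hm
    rw [orderOf_pow, hj, Nat.gcd_eq_right (dvd_mul_left _ _), Nat.mul_div_cancel _ (Nat.pos_of_ne_zero hm0)]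
  have h2 := pow_nine_lift hF hω h1
  rw [← pow_mul] at h2
  have h3 : (QuotientGroup.mk t : J3 F ω) ^ (m * 9) = 1 := by
    rw [← QuotientGroup.mk_pow, h2]
    rfl
  have h4 := orderOf_dvd_of_pow_eq_one h3
  have h5 : Nat.Coprime (orderOf (QuotientGroup.mk t : J3 F ω)) m := by
    rw [hx]
    exact Nat.Coprime.pow_left k ((Nat.Prime.coprime_iff_not_dvd Nat.prime_three).2 hm)
  exact orderOf_dvd_iff_pow_eq_one.1 (h5.dvd_of_dvd_mul_left h4)

theorem no_27 {K : Type*} [Group K] (h : IsoJ3 K) (x : K) : orderOf x ≠ 27 := by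
  obtain ⟨F, _, _, ω, hF, hω, ⟨e⟩⟩ := h
  intro hx
  have h1 : orderOf (e x) = 3 ^ 3 := by rw [MulEquiv.orderOf_eq, hx]; norm_num
  have h2 := pow_nine_J3 hF hω h1
  have h3 := orderOf_dvd_of_pow_eq_one h2
  rw [h1] at h3
  norm_num at h3

end J3

/-- the possible element orders -/
def j3B (n : ℕ) : Bool :=
  n % 19 == 0 || n % 17 == 0 || n % 27 == 0 ||
    (n % 2 == 0 && (1920 % n != 0 || n % 16 == 0 || (n % 5 == 0 && 10 % n != 0))) || Nat.ble n 45

theorem j3_check : (H417.Divs.divs [(2, 7), (3, 5), (5, 1), (17, 1), (19, 1)]).all j3B = true := by decide +kernel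

theorem j3_arith {n : ℕ} (hn : n ∣ 50232960) (h19 : ¬ 19 ∣ n) (h17 : ¬ 17 ∣ n) (h27 : ¬ 27 ∣ n)
    (h2 : 2 ∣ n → n ∣ 1920 ∧ ¬ 16 ∣ n ∧ (5 ∣ n → n ∣ 10)) : n ≤ 45 := by
  have h := H417.Divs.all_divs [(2, 7), (3, 5), (5, 1), (17, 1), (19, 1)] (by
    intro x hx
    simp only [List.mem_cons, List.not_mem_nil, or_false] at hx
    rcases hx with rfl | rfl | rfl | rfl | rfl <;> norm_num) (N := 50232960) (by decide +kernel) j3_check hn
  unfold j3B at h
  simp only [Bool.or_eq_true, Bool.and_eq_true, beq_iff_eq, bne_iff_ne, Nat.ble_eq] at h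
  rcases h with (((h | h) | h) | ⟨h, h'⟩) | h
  · exact absurd (Nat.dvd_of_mod_eq_zero h) h19
  · exact absurd (Nat.dvd_of_mod_eq_zero h) h17
  · exact absurd (Nat.dvd_of_mod_eq_zero h) h27
  · obtain ⟨h3, h4, h5⟩ := h2 (Nat.dvd_of_mod_eq_zero h)
    rcases h' with (h' | h') | ⟨h', h''⟩
    · exact absurd (Nat.mod_eq_zero_of_dvd h3) h'
    · exact absurd (Nat.dvd_of_mod_eq_zero h') h4
    · exact absurd (Nat.mod_eq_zero_of_dvd (h5 (Nat.dvd_of_mod_eq_zero h'))) h''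
  · exact h

theorem orderOf_le_j3 {K : Type} [Group K] (h : Spor.IsoJ3 K) (x : K) : orderOf x ≤ 45 := by
  have hc := (H898.J3Cent.base h).2.1
  have hM := (H898.J3Cent.base h).2.2
  have hfin : Finite K := Nat.finite_of_card_ne_zero (by rw [hc]; norm_num)
  have hn : orderOf x ∣ 50232960 := by rw [← hc]; exact orderOf_dvd_natCard x
  have hpos := orderOf_pos x
  have key : ∀ {p : ℕ}, p ∣ orderOf x → orderOf (x ^ (orderOf x / p)) = p :=
    fun hp => orderOf_pow_orderOf_div hpos.ne' hp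
  have hcomm : ∀ m : ℕ, x ∈ centralizer ({x ^ m} : Set K) := fun m =>
    mem_centralizer_singleton_iff.2 ((Commute.refl x).pow_right m).eq
  have hdvd : ∀ m : ℕ, orderOf x ∣ Nat.card (centralizer ({x ^ m} : Set K)) := fun m =>
    Subgroup.orderOf_dvd_natCard _ (hcomm m)
  by_cases h19 : 19 ∣ orderOf x
  · have h1 := hdvd (orderOf x / 19)
    rw [H898.J3Cent.card_nineteen h (key h19)] at h1
    exact (Nat.le_of_dvd (by norm_num) h1).trans (by norm_num)
  by_cases h17 : 17 ∣ orderOf x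
  · have h1 := hdvd (orderOf x / 17)
    rw [(H898.J3Cent.seventeen h (key h17)).1] at h1
    exact (Nat.le_of_dvd (by norm_num) h1).trans (by norm_num)
  refine j3_arith hn h19 h17 ?_ ?_
  · intro h27
    exact no_27 h _ (key h27)
  · intro h2
    obtain ⟨-, h1920, -⟩ := hM _ (key h2)
    refine ⟨?_, ?_, ?_⟩
    · rw [← h1920]
      exact hdvd _
    · intro h16
      exact H898.J3Cent.no_sixteen h _ (key h16)
    · intro h5
      have h1 := H715.Fpr.J3.card_ct h (key h5) (key h2) (((Commute.refl x).pow_left _).pow_right _).eq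
      rw [← h1]
      exact Subgroup.orderOf_dvd_natCard _ (mem_inf.2 ⟨hcomm _, hcomm _⟩)

theorem sm_j3 {K : Type} [Group K] (h : Spor.IsoJ3 K) : Sm K := by
  have hc := (H898.J3Cent.base h).2.1
  have hfin : Finite K := Nat.finite_of_card_ne_zero (by rw [hc]; norm_num)
  exact ⟨2 * 45, mo_of_index (S2067.index_le K h) (orderOf_le_j3 h), fun H hH =>
    lt_index (H715.Fpr.J3.ctx base0 h) (N := 180) (by decide +kernel) hH⟩

/-- **The row `J₃`.** -/
theorem row_j3 : Row3.{u, v} (fun T _ => Spor.IsoJ3 T) := by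
  intro G Ω _ _ T g h hT
  obtain ⟨F, _, _, ω, hF, hω, ⟨e⟩⟩ := hT
  have h1 : Spor.IsoJ3 (Spor.J3 F ω) := ⟨F, _, _, ω, hF, hω, ⟨MulEquiv.refl _⟩⟩
  exact H482.TwoCyc.row_sm G Ω T g h ((sm_j3 h1).congr e.symm)

end Cfsg.Agent.H326.TwoCyc
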