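import Cfsg.Agent.H326.TwoCyc.Tools
import Cfsg.Agent.H715.Fpr.J2
import Cfsg.Agent.H379.J2Orders
import Cfsg.Agent.J2Type.ThreeF
import Cfsg.Agent.KFacts.J2.SheetX
import Cfsg.Agent.S0000
import Cfsg.Agent.OrdDiv.Table

/-!
# TEAM TWOCYC (S3507): the row `J₂` (helper326)

The element `g` has order at most 30, `n = k + l ≤ 60` with `k, l ∣ o(g)`; a proper subgroup of `J₂` has index at least 32
and the engine of helper940 excludes all indices up to 60 except 35, 42, 50, 56; so `o(g) = 30`, `{k, l} = {5, 30}`. Then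
`g ^ 10` fixes exactly five points, which are moved by `g ^ 6`: impossible, by the structure of the centralizer of `g ^ 10`.
-/

set_option autoImplicit false

namespace Cfsg.Agent.H326.TwoCyc

open Cfsg Subgroup Cfsg.Agent.H384.Cyc Cfsg.Agent.H940.Eng Cfsg.Agent.OrdDiv Cfsg.Agent.H940.Eng.D

universe u v

section kill

open Cfsg.Agent.J2Type Cfsg.Agent.J2Type.Base

variable {K : Type u} [Group K] [Finite K] {z u : K}

/-- an element of order 5 does not centralize a 3-subgroup of order at least 9 -/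
theorem not_centralize (h : Fus z u) {R : Subgroup K} {m : ℕ} (hR : Nat.card R = 3 ^ m) (hm : 2 ≤ m) {y : K}
    (hy : orderOf y = 5) (hc : ∀ r ∈ R, r * y = y * r) : False := by
  have : Fact (Nat.Prime 3) := ⟨by norm_num⟩
  obtain ⟨f, U, V, H0, F⟩ := CentU.main h
  obtain ⟨d, hd, hdV, hdH⟩ := ThreeA.exists_d h F
  obtain ⟨P, hPd, hfP, hdP⟩ := ThreeF.exists_sylow h F hd hdH
  obtain ⟨-, hcl⟩ := ThreeF.card_normalizer h F hd hdV hdH hPd hfP hdP
  obtain ⟨Q, hQ⟩ := (IsPGroup.of_card hR : IsPGroup 3 R).exists_le_sylow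
  obtain ⟨g, hg⟩ := MulAction.exists_smul_eq K Q P
  have hmem : ∀ r ∈ R, g * r * g⁻¹ ∈ (P : Subgroup K) := by
    intro r hr
    rw [← hg]
    exact Subgroup.smul_mem_pointwise_smul r (MulAut.conj g) (Q : Subgroup K) (hQ hr)
  -- an element outside `⟨d⟩`
  have hex : ∃ r ∈ R, g * r * g⁻¹ ∉ zpowers d := by
    by_contra hcon
    push Not at hcon
    have h1 : Nat.card R ≤ Nat.card (zpowers d) := by
      refine Nat.card_le_card_of_injective (fun r : R => (⟨g * r * g⁻¹, hcon r r.2⟩ : zpowers d)) ?_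
      intro a b hab
      have h2 : g * (a : K) * g⁻¹ = g * b * g⁻¹ := congrArg Subtype.val hab
      exact Subtype.ext (mul_left_cancel (mul_right_cancel h2))
    rw [hR, Nat.card_zpowers, hd] at h1
    have h2 : 3 ^ 2 ≤ 3 ^ m := Nat.pow_le_pow_right (by norm_num) hm
    omega
  obtain ⟨r, hr, hrd⟩ := hex
  have h1 := hcl _ (hmem r hr) hrd
  have h36 := ThreeD.card_centralizer_f h F hd hdH
  have h2 : IsConj f r := h1.trans (isConj_iff.2 ⟨g⁻¹, by group⟩)
  rw [Cent5.card_centralizer_of_isConj h2] at h36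
  have h3 : y ∈ centralizer ({r} : Set K) := mem_centralizer_singleton_iff.2 (hc r hr).symm
  have h4 := Subgroup.orderOf_dvd_natCard _ h3
  rw [h36, hy] at h4
  norm_num at h4

/-- the centralizer of an element of order 3 commuting with an element of order 5 -/
theorem card_1080 (h : Fus z u) {d a : K} (hd : orderOf d = 3) (ha : orderOf a = 5) (hda : a * d = d * a) :
    Nat.card (centralizer ({d} : Set K)) = 1080 := by
  obtain ⟨x, y, -, -, hx, hy, hcl, -⟩ := ThreeF.main h
  rcases hcl d hd with h1 | h1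
  · rw [Cent5.card_centralizer_of_isConj h1, hx]
  · exfalso
    have h3 : a ∈ centralizer ({d} : Set K) := mem_centralizer_singleton_iff.2 hda
    have h4 := Subgroup.orderOf_dvd_natCard _ h3
    rw [Cent5.card_centralizer_of_isConj h1, hy, ha] at h4
    norm_num at h4

/-- **The kill**: the centralizer of an element `d` of order 3 does not act on five points such that an element of order 5
moves a point. -/
theorem kill (h : Fus z u) {d : K} (hd : orderOf d = 3) {C : Subgroup K} (hC : C = centralizer ({d} : Set K)) (a' : C)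
    (ha : orderOf (a' : K) = 5) {X : Type v} (hX : Nat.card X = 5) [MulAction C X] {x : X}
    (hmove : a' • x ≠ x) : False := by
  classical
  have f5 : Fact (Nat.Prime 5) := ⟨by norm_num⟩
  have f3 : Fact (Nat.Prime 3) := ⟨by norm_num⟩
  have hfX : Finite X := Nat.finite_of_card_ne_zero (by rw [hX]; norm_num)
  have hda : (a' : K) * d = d * a' := by
    have h1 : (a' : K) ∈ centralizer ({d} : Set K) := by rw [← hC]; exact a'.2
    exact mem_centralizer_singleton_iff.1 h1
  have h1080 := card_1080 h hd ha hda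
  rw [← hC] at h1080
  have ha5 : orderOf a' = 5 := by rw [← Subgroup.orderOf_coe, ha]
  obtain ⟨φ, hφdef⟩ : ∃ φ : C →* Equiv.Perm X, φ = MulAction.toPermHom C X := ⟨_, rfl⟩
  have hφa : φ a' ≠ 1 := by
    intro h1
    apply hmove
    have h2 : φ a' x = x := by rw [h1]; rfl
    rwa [hφdef, MulAction.toPermHom_apply, MulAction.toPerm_apply] at h2
  have hr : Nat.card φ.range ∣ 120 := by
    have h1 := Subgroup.card_subgroup_dvd_card φ.range
    have h2 : Nat.card (Equiv.Perm X) = 120 := by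
      have := Fintype.ofFinite X
      rw [Nat.card_eq_fintype_card, Fintype.card_perm, ← Nat.card_eq_fintype_card, hX]
      rfl
    rwa [h2] at h1
  have hkr : Nat.card φ.ker * Nat.card φ.range = 1080 := by
    rw [← h1080, ← Subgroup.index_ker, Subgroup.card_mul_index]
  have h5r : 5 ∣ Nat.card φ.range := by
    have h1 : orderOf (φ a') = 5 := by
      apply orderOf_eq_prime _ hφa
      rw [← map_pow, ← ha5, pow_orderOf_eq_one, map_one]
    have h2 := Subgroup.orderOf_dvd_natCard φ.range (x := φ a') ⟨a', rfl⟩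
    rwa [h1] at h2
  have h9k : 3 ^ 2 ∣ Nat.card φ.ker := by
    obtain ⟨s, hs⟩ := hr
    refine ⟨s, ?_⟩
    have hpos : 0 < Nat.card φ.range := Nat.card_pos
    apply Nat.eq_of_mul_eq_mul_right hpos
    rw [hkr]
    calc 1080 = 9 * 120 := by norm_num
      _ = 9 * (Nat.card φ.range * s) := by rw [← hs]
      _ = _ := by ring
  have h5k : ¬ 5 ∣ Nat.card φ.ker := by
    intro h1
    have h2 := Nat.mul_dvd_mul h1 h5r
    rw [hkr] at h2
    norm_num at h2
  -- a Sylow 3-subgroup of the kernel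
  obtain ⟨P⟩ : Nonempty (Sylow 3 φ.ker) := inferInstance
  have hfrat := Sylow.normalizer_sup_eq_top P
  set N := normalizer (((P : Subgroup φ.ker).map φ.ker.subtype : Subgroup C) : Set C) with hN
  have h5N : 5 ∣ Nat.card N := by
    have h1 : N.map φ = φ.range := by
      have h2 : (N ⊔ φ.ker).map φ = φ.range := by rw [hfrat, ← MonoidHom.range_eq_map]
      rw [Subgroup.map_sup] at h2
      have h3 : φ.ker.map φ = ⊥ := by
        rw [Subgroup.map_eq_bot_iff]
      rwa [h3, sup_bot_eq] at h2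
    have h2 : Nat.card (N.map φ) ∣ Nat.card N := Subgroup.card_map_dvd N φ
    rw [h1] at h2
    exact h5r.trans h2
  obtain ⟨y, hy⟩ := exists_prime_orderOf_dvd_card' (G := N) 5 h5N
  -- everything in `K`
  set R : Subgroup K := ((P : Subgroup φ.ker).map φ.ker.subtype).map C.subtype with hR
  have hRc : Nat.card R = Nat.card P := by
    rw [hR, card_map_of_injective C.subtype_injective, card_map_of_injective (Subtype.val_injective)]
  obtain ⟨m, hm⟩ := P.isPGroup'.exists_card_eq
  have hm2 : 2 ≤ m := by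
    have h1 : 3 ^ 2 ∣ Nat.card P := P.pow_dvd_card_of_pow_dvd_card h9k
    rw [hm] at h1
    exact (Nat.pow_dvd_pow_iff_le_right (by norm_num)).1 h1
  have hm3 : m ≤ 3 := by
    have h1 : 3 ^ m ∣ 1080 := by
      rw [← hkr, ← hm]
      exact (Subgroup.card_subgroup_dvd_card _).trans (dvd_mul_right _ _)
    by_contra hlt
    have h2 : 3 ^ 4 ∣ 1080 := (pow_dvd_pow 3 (by omega)).trans h1
    norm_num at h2
  have hyo : orderOf ((y : C) : K) = 5 := by
    rw [Subgroup.orderOf_coe, Subgroup.orderOf_coe, hy]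
  have hnorm : ∀ r ∈ R, ((y : C) : K) * r * ((y : C) : K)⁻¹ ∈ R := by
    rintro _ ⟨r, hr, rfl⟩
    have h1 : (y : C) * r * (y : C)⁻¹ ∈ (P : Subgroup φ.ker).map φ.ker.subtype :=
      (mem_normalizer_iff.1 y.2 r).1 hr
    exact ⟨_, h1, by simp⟩
  have hmod := ThreeA.card_centralizer_modEq R hyo hnorm
  have hdvd : Nat.card (R ⊓ centralizer ({((y : C) : K)} : Set K) : Subgroup K) ∣ Nat.card R :=
    Subgroup.card_dvd_of_le inf_le_left
  rw [hRc, hm] at hmod hdvd
  have heq : Nat.card (R ⊓ centralizer ({((y : C) : K)} : Set K) : Subgroup K) = 3 ^ m := by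
    obtain ⟨j, hj, hj2⟩ := (Nat.dvd_prime_pow Nat.prime_three).1 hdvd
    rw [hj2] at hmod ⊢
    have h1 : ∀ m ∈ Finset.Icc 2 3, ∀ j ∈ Finset.range 4, j ≤ m → 3 ^ m % 5 = 3 ^ j % 5 → 3 ^ j = 3 ^ m := by
      decide
    exact h1 m (Finset.mem_Icc.2 ⟨hm2, hm3⟩) j (Finset.mem_range.2 (by omega)) hj hmod
  have hle : R ≤ centralizer ({((y : C) : K)} : Set K) := by
    have h1 : R ⊓ centralizer ({((y : C) : K)} : Set K) = R := by
      apply eq_of_le_of_card_ge inf_le_left
      rw [heq, hRc, hm]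
    rw [← h1]
    exact inf_le_right
  exact not_centralize h (hRc.trans hm) hm2 hyo fun r hr => mem_centralizer_singleton_iff.1 (hle hr)

end kill

/-- the centralizer of `d` acts on the fixed points of `d` -/
@[reducible] def fixAct {K : Type u} {Y : Type v} [Group K] [MulAction K Y] (d : K) :
    MulAction (centralizer ({d} : Set K)) {y : Y // d • y = y} where
  smul c y := ⟨(c : K) • y.1, by
    rw [← mul_smul, ← mem_centralizer_singleton_iff.1 c.2, mul_smul, y.2]⟩
  one_smul y := Subtype.ext (one_smul K y.1)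
  mul_smul a b y := Subtype.ext (mul_smul (a : K) (b : K) y.1)

/-- the arithmetic of the orders -/
theorem j2_num : ∀ o ∈ ({1, 2, 3, 4, 5, 6, 7, 8, 10, 12, 14, 15, 16, 20, 24, 30} : Finset ℕ), ∀ k ∈ Finset.range 31,
    ∀ l ∈ Finset.range 31, o % k = 0 → o % l = 0 → k + l ∈ ({35, 42, 50, 56} : Finset ℕ) →
      o = 30 ∧ ((k = 5 ∧ l = 30) ∨ (k = 30 ∧ l = 5)) := by
  decide +kernel

/-- the index of a proper subgroup of `J₂` up to 60 -/
theorem j2_index {T : Type u} [Group T] (h : Spor.IsoJ2 T) {M : Subgroup T} (hM : M ≠ ⊤) (h60 : M.index ≤ 60) :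
    M.index ∈ ({35, 42, 50, 56} : Finset ℕ) := by
  obtain ⟨e⟩ := h
  have hI : Spor.IsoJ2 Spor.J2 := ⟨MulEquiv.refl _⟩
  set M' : Subgroup Spor.J2 := M.comap e.symm.toMonoidHom with hM'
  have h1 : M'.index = M.index := Subgroup.index_comap_of_surjective _ e.symm.surjective
  have h2 : M' ≠ ⊤ := by
    intro h3
    apply hM
    rw [← Subgroup.index_eq_one, ← h1, h3, Subgroup.index_top]
  have h3 := H715.Fpr.J2.lb hI M' h2
  have h4 := lt_index' (H715.Fpr.J2.ctx ⟨Cfsg.Agent.OrdDiv.table.{0}, fun _ _ _ _ => Cfsg.Agent.S0000.result⟩ hI)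
    (N := 60) (allow := [7, 14, 15, 21, 28, 30, 35, 42, 50, 56]) (by decide +kernel) h2
  rw [h1] at h3 h4
  rcases h4 with h4 | h4
  · omega
  · simp only [List.mem_cons, List.not_mem_nil, or_false] at h4
    simp only [Finset.mem_insert, Finset.mem_singleton]
    omega

section row

open MulAction

variable {G : Type u} {Ω : Type v} [Group G] [MulAction G Ω]

theorem pow_smul_iff {g : G} [Finite Ω] (m : ℕ) (ω : Ω) :
    g ^ m • ω = ω ↔ Nat.card (orbit (zpowers g) ω) ∣ m := by
  have := Fintype.ofFinite (orbit (zpowers g) ω)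
  rw [MulAction.pow_smul_eq_iff_minimalPeriod_dvd, MulAction.minimalPeriod_eq_card, Nat.card_eq_fintype_card]

/-- the final configuration is impossible -/
theorem false_of_five [Finite G] [Finite Ω] {T : Subgroup G} (hT : Spor.IsoJ2 T) {g : G} (hsq : g ^ 2 ∈ T)
    (ho : orderOf g = 30) {ω₁ ω₂ : Ω} (hcov : ∀ ω : Ω, ω ∈ orbit (zpowers g) ω₁ ∨ ω ∈ orbit (zpowers g) ω₂)
    (h1 : Nat.card (orbit (zpowers g) ω₁) = 5) (h2 : Nat.card (orbit (zpowers g) ω₂) = 30) : False := by
  obtain ⟨z, u, Q, v, ρ, D⟩ := KFacts.J2.Facts.exists_dat_of hT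
  have h10 : g ^ 10 ∈ T := by
    have : g ^ 10 = (g ^ 2) ^ 5 := by rw [← pow_mul]
    rw [this]
    exact T.pow_mem hsq 5
  have h6 : g ^ 6 ∈ T := by
    have : g ^ 6 = (g ^ 2) ^ 3 := by rw [← pow_mul]
    rw [this]
    exact T.pow_mem hsq 3
  let d : T := ⟨g ^ 10, h10⟩
  let a : T := ⟨g ^ 6, h6⟩
  have hd : orderOf d = 3 := by
    rw [Subgroup.orderOf_mk, orderOf_pow, ho]
    decide
  have ha : orderOf a = 5 := by
    rw [Subgroup.orderOf_mk, orderOf_pow, ho]
    decide
  have hda : a * d = d * a := Subtype.ext (by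
    show g ^ 6 * g ^ 10 = g ^ 10 * g ^ 6
    rw [← pow_add, ← pow_add])
  have hlen : ∀ ω : Ω, ω ∈ orbit (zpowers g) ω₁ ↔ g ^ 10 • ω = ω := by
    intro ω
    rw [pow_smul_iff]
    constructor
    · intro h
      rw [orbit_eq_iff.2 h, h1]
      norm_num
    · intro h
      rcases hcov ω with h3 | h3
      · exact h3
      · rw [orbit_eq_iff.2 h3, h2] at h
        norm_num at h
  letI := fixAct (Y := Ω) d
  have hX : Nat.card {y : Ω // d • y = y} = 5 := by
    rw [← h1]
    refine Nat.card_congr (Equiv.subtypeEquivRight fun y => ?_)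
    exact (hlen y).symm
  have hω : d • ω₁ = ω₁ := (hlen ω₁).1 (mem_orbit_self ω₁)
  refine kill D.F hd rfl (⟨a, mem_centralizer_singleton_iff.2 hda⟩ : centralizer ({d} : Set T)) ha hX (x := ⟨ω₁, hω⟩) ?_
  intro h
  have h3 : g ^ 6 • ω₁ = ω₁ := congrArg Subtype.val h
  rw [pow_smul_iff, h1] at h3
  norm_num at h3

/-- **The row `J₂`.** -/
theorem row_j2 : Row3.{u, v} (fun T _ => Spor.IsoJ2 T) := by
  intro G Ω _ _ T g h hT
  exfalso
  have := h.finG
  have := h.finΩ
  have := h.norm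
  obtain ⟨htr, hidx⟩ := H482.TwoCyc.exists_index h
  obtain ⟨z, u, Q, v, ρ, D⟩ := KFacts.J2.Facts.exists_dat_of hT
  -- the square of `g` is in the socle
  have hsq : g ^ 2 ∈ T := by
    obtain ⟨x, hx⟩ := exists_sq (KFacts.J2.SheetX.index_le D) (MulAut.conjNormal g : MulAut T)
    have h1 : g ^ 2 * (x : G)⁻¹ ∈ Subgroup.centralizer (T : Set G) := by
      rw [Subgroup.mem_centralizer_iff]
      intro t ht
      have h2 := congrArg (fun f : MulAut T => ((f (x⁻¹ * ⟨t, ht⟩ * x) : T) : G)) hx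
      simp only [MulAut.conj_apply] at h2
      rw [← map_pow, MulAut.conjNormal_apply] at h2
      push_cast at h2
      have h3 : g ^ 2 * ((x : G)⁻¹ * t * x) * (g ^ 2)⁻¹ = t := by
        rw [h2]
        group
      calc t * (g ^ 2 * (x : G)⁻¹) = (g ^ 2 * ((x : G)⁻¹ * t * x) * (g ^ 2)⁻¹) * (g ^ 2 * (x : G)⁻¹) := by rw [h3]
        _ = g ^ 2 * (x : G)⁻¹ * t := by group
    rw [h.cent, Subgroup.mem_bot, mul_inv_eq_one] at h1
    rw [h1]
    exact x.2
  have ho : orderOf g ∈ ({1, 2, 3, 4, 5, 6, 7, 8, 10, 12, 14, 15, 16, 20, 24, 30} : Finset ℕ) := by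
    have h1 := H379.J2Orders.orders_mem D ⟨g ^ 2, hsq⟩
    rw [Subgroup.orderOf_mk] at h1
    have h2 : orderOf (g ^ 2) = orderOf g ∨ orderOf g = 2 * orderOf (g ^ 2) := by
      have h3 := orderOf_pow (n := 2) g
      have hd : Nat.gcd (orderOf g) 2 ∣ 2 := Nat.gcd_dvd_right _ _
      rcases (Nat.dvd_prime Nat.prime_two).1 hd with h4 | h4
      · left
        rw [h3, h4, Nat.div_one]
      · right
        rw [h3, h4]
        have h5 : 2 ∣ orderOf g := by rw [← h4]; exact Nat.gcd_dvd_left _ _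
        omega
    simp only [Finset.mem_insert, Finset.mem_singleton] at h1 ⊢
    omega
  have ho30 : orderOf g ≤ 30 := by
    simp only [Finset.mem_insert, Finset.mem_singleton] at ho
    omega
  -- the two orbits
  obtain ⟨q₁, q₂, hne, hall⟩ := Nat.card_eq_two_iff.1 h.two
  obtain ⟨ω₁, rfl⟩ := Quotient.exists_rep q₁
  obtain ⟨ω₂, rfl⟩ := Quotient.exists_rep q₂
  have hcov : ∀ ω : Ω, ω ∈ orbit (zpowers g) ω₁ ∨ ω ∈ orbit (zpowers g) ω₂ := by
    intro ω
    have h1 : (Quotient.mk _ ω : orbitRel.Quotient (zpowers g) Ω) ∈ (Set.univ : Set _) := Set.mem_univ _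
    rw [← hall] at h1
    rcases h1 with h1 | h1
    · left
      exact Quotient.exact h1
    · right
      exact Quotient.exact h1
  have hdisj : Disjoint (orbit (zpowers g) ω₁) (orbit (zpowers g) ω₂) := by
    rw [Set.disjoint_left]
    intro ω h1 h2
    apply hne
    apply Quotient.sound
    have h3 : ω₁ ∈ orbit (zpowers g) ω := (mem_orbit_symm).1 h1
    have h4 := orbit_eq_iff.2 h2
    rw [h4] at h3
    exact h3
  have hsum : Nat.card Ω = Nat.card (orbit (zpowers g) ω₁) + Nat.card (orbit (zpowers g) ω₂) := by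
    rw [← Set.ncard_univ, show (Set.univ : Set Ω) = orbit (zpowers g) ω₁ ∪ orbit (zpowers g) ω₂ from ?_,
      Set.ncard_union_eq hdisj]
    · rfl
    · ext ω
      simp [hcov ω]
  have hdvd : ∀ ω : Ω, Nat.card (orbit (zpowers g) ω) ∣ orderOf g := by
    intro ω
    rw [← pow_smul_iff, pow_orderOf_eq_one, one_smul]
  have hpos := orderOf_pos g
  have hle : ∀ ω : Ω, Nat.card (orbit (zpowers g) ω) ≤ 30 := fun ω => (Nat.le_of_dvd hpos (hdvd ω)).trans ho30
  have hM := hidx ω₁
  have h1 := j2_index hT hM.2 (by rw [hM.1, hsum]; have := hle ω₁; have := hle ω₂; omega)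
  rw [hM.1, hsum] at h1
  obtain ⟨h2, h3 | h3⟩ := j2_num _ ho _ (Finset.mem_range.2 (by have := hle ω₁; omega)) _
    (Finset.mem_range.2 (by have := hle ω₂; omega)) (Nat.mod_eq_zero_of_dvd (hdvd ω₁))
    (Nat.mod_eq_zero_of_dvd (hdvd ω₂)) h1
  · exact false_of_five hT hsq h2 hcov h3.1 h3.2
  · exact false_of_five hT hsq h2 (fun ω => (hcov ω).symm) h3.2 h3.1

end row

end Cfsg.Agent.H326.TwoCyc
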